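import Cfsg.Agent.H180.MElFix
import Cfsg.Agent.SporadicA.MathieuRecog
import Cfsg.Agent.SmallSimple.PrimeLocal
import Cfsg.Agent.S2037
import Mathlib.GroupTheory.Perm.Centralizer

/-!
# Elements of order 7 of the Mathieu group of degree 23 (helper921)

* `card_centralizer_dvd` : the order of the centralizer in `M23` divides `84`;
* `card_centralizer_le` : in a group isomorphic to `M23`, the centralizer of an element of order 7 has at most 21
  elements (Sylow).
-/

set_option autoImplicit false

namespace Cfsg.Agent.H921.K4.M23Cent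

open Cfsg Subgroup Cfsg.Agent.SporadicA.MathieuRecog Cfsg.Agent.H866.InvolType

universe u

/-- The action of `M23` on the 23 points. -/
def f : Cfsg.Spor.M23 →* Equiv.Perm Pt23 := letI := act23; MulAction.toPermHom Cfsg.Spor.M23 Pt23

theorem f_apply (g : Cfsg.Spor.M23) (a : Pt23) : ((f g) a).1 = g.1 a.1 := rfl

theorem f_injective : Function.Injective f := by
  letI := act23
  haveI := act23_faithful
  exact MulAction.toPerm_injective

theorem card_fix {t : Cfsg.Spor.M23} (ht : orderOf t = 7) :
    (Finset.univ.filter fun a : Pt23 => f t a = a).card = 2 := by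
  have h1 : fx (t : Equiv.Perm Cfsg.GolayPt) = 3 :=
    Cfsg.Agent.H180.MEl.fx7 ((mem_M23_iff _).1 t.2).1 (by rw [Subgroup.orderOf_coe, ht])
  have h2 : (Finset.univ.filter fun p : Cfsg.GolayPt => (t : Equiv.Perm Cfsg.GolayPt) p = p) =
      insert none ((Finset.univ.filter fun a : Pt23 => f t a = a).map (Function.Embedding.subtype _)) := by
    ext p
    simp only [Finset.mem_filter, Finset.mem_univ, true_and, Finset.mem_insert, Finset.mem_map,
      Function.Embedding.coe_subtype]
    constructor
    · intro h
      by_cases hp : p = none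
      · exact Or.inl hp
      · exact Or.inr ⟨⟨p, hp⟩, Subtype.ext h, rfl⟩
    · rintro (rfl | ⟨a, ha, rfl⟩)
      · exact ((mem_M23_iff _).1 t.2).2
      · exact congrArg Subtype.val ha
  unfold fx at h1
  rw [h2, Finset.card_insert_of_notMem, Finset.card_map] at h1
  · omega
  · simp only [Finset.mem_map, Function.Embedding.coe_subtype, not_exists, not_and]
    rintro ⟨a, ha⟩ _ h
    exact ha h

theorem cycleType_f {t : Cfsg.Spor.M23} (ht : orderOf t = 7) : (f t).cycleType = Multiset.replicate 3 7 := by
  have h1 : orderOf (f t) = 7 := by rw [orderOf_injective f f_injective, ht]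
  obtain ⟨n, hn⟩ := Equiv.Perm.cycleType_prime_order (σ := f t) (by rw [h1]; norm_num)
  rw [h1] at hn
  have h2 := (f t).sum_cycleType
  rw [hn, Multiset.sum_replicate, smul_eq_mul] at h2
  have h3 : (f t).support.card + (Finset.univ.filter fun a : Pt23 => f t a = a).card = 23 := by
    have e0 := Finset.card_filter_add_card_filter_not (s := (Finset.univ : Finset Pt23)) (fun a : Pt23 => f t a ≠ a)
    rw [Finset.card_univ, card_Pt23] at e0
    simp only [not_not] at e0
    exact e0
  rw [card_fix ht] at h3
  have h4 : n = 2 := by omega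
  rw [hn, h4]

theorem card_centralizer_perm {t : Cfsg.Spor.M23} (ht : orderOf t = 7) :
    Nat.card (centralizer ({f t} : Set (Equiv.Perm Pt23))) = 4116 := by
  rw [Equiv.Perm.nat_card_centralizer, cycleType_f ht, card_Pt23]
  simp only [Multiset.sum_replicate, Multiset.prod_replicate, smul_eq_mul]
  rw [show (Multiset.replicate 3 7 : Multiset ℕ).toFinset = {7} by decide, Finset.prod_singleton,
    Multiset.count_replicate_self]
  decide

theorem card_centralizer_dvd {t : Cfsg.Spor.M23} (ht : orderOf t = 7) :
    Nat.card (centralizer ({t} : Set Cfsg.Spor.M23)) ∣ 84 := by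
  have h1 : Nat.card (centralizer ({t} : Set Cfsg.Spor.M23)) ∣ 4116 := by
    rw [← card_centralizer_perm ht]
    let g : centralizer ({t} : Set Cfsg.Spor.M23) →* centralizer ({f t} : Set (Equiv.Perm Pt23)) :=
      (f.comp (centralizer ({t} : Set Cfsg.Spor.M23)).subtype).codRestrict _ (fun x => by
        rw [mem_centralizer_singleton_iff]
        have h := mem_centralizer_singleton_iff.1 x.2
        show f x.1 * f t = f t * f x.1
        rw [← map_mul, h, map_mul])
    have hg : Function.Injective g := by
      intro x y h
      exact Subtype.ext (f_injective (congrArg Subtype.val h))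
    exact Subgroup.card_dvd_of_injective g hg
  have h2 : Nat.card (centralizer ({t} : Set Cfsg.Spor.M23)) ∣ 10200960 := by
    rw [← card_M23]
    exact Subgroup.card_subgroup_dvd_card _
  have h3 := Nat.dvd_gcd h1 h2
  have h4 : Nat.gcd 4116 10200960 = 84 := by decide
  rwa [h4] at h3

theorem card_centralizer_le {S : Type u} [Group S] (h : Cfsg.Spor.IsoM23 S) {t : S} (ht : orderOf t = 7) :
    Nat.card (centralizer ({t} : Set S)) ≤ 21 := by
  obtain ⟨e⟩ := h
  have h1 := Cfsg.Agent.S2037.simple
  have hs : IsSimpleGroup S := e.isSimpleGroup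
  have hcard : Nat.card S = 10200960 := by rw [Nat.card_congr e.toEquiv, card_M23]
  have hfin : Finite S := Nat.finite_of_card_ne_zero (by rw [hcard]; norm_num)
  have h7 : Fact (Nat.Prime 7) := ⟨by norm_num⟩
  have hdvd : Nat.card (centralizer ({t} : Set S)) ∣ 84 := by
    have h2 : orderOf (e t) = 7 := (orderOf_injective e.toMonoidHom e.injective t).trans ht
    have h3 := card_centralizer_dvd h2
    rw [show Nat.card (centralizer ({t} : Set S)) = Nat.card (centralizer ({e t} : Set Cfsg.Spor.M23)) from ?_]
    · exact h3
    · refine Nat.card_congr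
        { toFun := fun x => ⟨e x.1, ?_⟩, invFun := fun y => ⟨e.symm y.1, ?_⟩, left_inv := ?_, right_inv := ?_ }
      · rw [mem_centralizer_singleton_iff]
        have h := mem_centralizer_singleton_iff.1 x.2
        rw [← map_mul, h, map_mul]
      · rw [mem_centralizer_singleton_iff]
        have h := mem_centralizer_singleton_iff.1 y.2
        apply e.injective
        simpa using h
      · intro x
        simp
      · intro x
        simp
  -- the Sylow subgroup
  have hPt : IsPGroup 7 (zpowers t) := IsPGroup.of_card (n := 1) (by rw [Nat.card_zpowers, ht, pow_one])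
  obtain ⟨P, hP⟩ := hPt.exists_le_sylow
  have hPc : Nat.card P = 7 :=
    Cfsg.Agent.SmallSimple.PrimeLocal.card_of_not_sq_dvd (by rw [hcard]; norm_num) (by rw [hcard]; norm_num) P
  have hPe : (P : Subgroup S) = zpowers t := by
    refine (Subgroup.eq_of_le_of_card_ge hP ?_).symm
    rw [Nat.card_zpowers, ht]
    exact hPc.le
  have hnc : ¬ IsMulCommutative S := by
    intro hc
    have h2 : (Nat.card S).Prime := by
      let inst : CommGroup S := { (inferInstance : Group S) with mul_comm := hc.is_comm.comm }
      exact @IsSimpleGroup.prime_card S inst hs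
    rw [hcard] at h2
    norm_num at h2
  obtain ⟨e', K, hK⟩ := Cfsg.Agent.SmallSimple.PrimeLocal.exists_local hnc (p := 7) (by rw [hcard]; norm_num)
    (by rw [hcard]; norm_num) P
  have hcc : centralizer ((P : Subgroup S) : Set S) = centralizer ({t} : Set S) := by
    rw [hPe, zpowers_eq_closure, centralizer_closure]
  have h2 := hK.card_centralizer
  have h2' : Nat.card (centralizer ({t} : Set S)) = 7 * Nat.card K := by
    rw [← hcc]
    exact h2
  have h3 := card_sylow_modEq_one 7 S
  have h4 := hK.card_eq
  have h5 := hK.dvd_pred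
  have h6 := hK.one_lt
  rw [h2'] at hdvd ⊢
  rw [hcard] at h4
  generalize Nat.card K = k at hdvd h4 ⊢
  generalize Nat.card (Sylow 7 S) = n at h3 h4
  have hk : k ∣ 12 := by
    have : 7 * k ∣ 7 * 12 := hdvd
    exact Nat.dvd_of_mul_dvd_mul_left (by norm_num) this
  have hk' : k ∈ Nat.divisors 12 := Nat.mem_divisors.2 ⟨hk, by norm_num⟩
  have he' : e' ∈ Nat.divisors 6 := Nat.mem_divisors.2 ⟨h5, by norm_num⟩
  rw [show Nat.divisors 12 = {1, 2, 3, 4, 6, 12} by decide] at hk'
  rw [show Nat.divisors 6 = {1, 2, 3, 6} by decide] at he'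
  simp only [Finset.mem_insert, Finset.mem_singleton] at hk' he'
  unfold Nat.ModEq at h3
  rcases hk' with rfl | rfl | rfl | rfl | rfl | rfl <;> rcases he' with rfl | rfl | rfl | rfl <;> omega

end Cfsg.Agent.H921.K4.M23Cent
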