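import Cfsg.Agent.H601.K4.Defs
import Cfsg.Agent.H618.Sigma
import Cfsg.Agent.Blocks.ExistsModular

/-!
# K4 rows (S4947, S4547): parity of the sum of the values of the good characters (helper921)

* `exists_cube` : there is an exponent `k` with `g ^ k = g ^ 3` for the 2-elements, `g ^ k = g` for the elements of
  odd order;
* `sigFix_iff` : `SigFix χ` from one such exponent;
* `good_parity` : if `A` is a finite set of irreducible characters of odd degree, `SigFix`, in the principal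
  2-block, and all other such characters vanish at the element `t` of odd order, then the integer
  `∑ χ ∈ A, χ t` is even.
-/

set_option autoImplicit false

namespace Cfsg.Agent.H921.K4

open Cfsg Cfsg.Agent.Characters.Core Cfsg.Agent.H601.K4 Cfsg.Agent.H618.Sigma

universe u

theorem exists_cube (S : Type u) [Group S] [Finite S] : ∃ k : ℕ, Cube S k := by
  obtain ⟨a, m, hm, hn⟩ := Nat.exists_eq_pow_mul_and_not_dvd (Nat.card_pos (α := S)).ne' 2 (by norm_num)
  have hcop : Nat.Coprime (2 ^ a) m := Nat.Coprime.pow_left a ((Nat.prime_two.coprime_iff_not_dvd).2 hm)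
  obtain ⟨k, hk1, hk2⟩ := Nat.chineseRemainder hcop 3 1
  refine ⟨k, ⟨fun g hg => ?_, fun g hg => ?_⟩⟩
  · obtain ⟨j, hj⟩ := hg
    rw [pow_eq_pow_iff_modEq]
    refine hk1.of_dvd ?_
    have h1 : orderOf g ∣ 2 ^ a * m := hn ▸ orderOf_dvd_natCard g
    refine Nat.Coprime.dvd_of_dvd_mul_right ?_ h1
    rw [hj]
    exact Nat.Coprime.pow_left j ((Nat.prime_two.coprime_iff_not_dvd).2 hm)
  · have h2 : g ^ k = g ^ 1 := by
      rw [pow_eq_pow_iff_modEq]
      refine hk2.of_dvd ?_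
      have h1 : orderOf g ∣ 2 ^ a * m := hn ▸ orderOf_dvd_natCard g
      refine Nat.Coprime.dvd_of_dvd_mul_left ?_ h1
      exact Nat.Coprime.pow_right a (Nat.coprime_two_right.2 hg)
    rw [h2, pow_one]

variable {S : Type u} [Group S]

theorem sigFix_iff [Finite S] {k : ℕ} (h : Cube S k) {χ : S → ℂ} : SigFix χ ↔ ∀ g : S, χ (g ^ k) = χ g := by
  constructor
  · intro h1
    exact h1 k h.two h.odd
  · intro h1 k' h2 h3 g
    obtain ⟨x, y, rfl, hxy, hx, hy⟩ := exists_decomp g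
    have e1 : (x * y) ^ k' = (x * y) ^ k := by
      rw [hxy.mul_pow, hxy.mul_pow, h2 x hx, h3 y hy, h.two x hx, h.odd y hy]
    rw [e1]
    exact h1 _

theorem sigFix_iff_sig [Finite S] {k : ℕ} (h : Cube S k) (χ : IrrCharacter S) :
    SigFix (χ : S → ℂ) ↔ sig h χ = χ := by
  rw [sigFix_iff h, sig_eq_iff]

open Cfsg.Agent.Blocks.Local in
/-- **Parity.** -/
theorem good_parity [Finite S] {M : Ideal AlgInt} (hM : IsPModular 2 M) (hev : Even (Nat.card S)) {t : S}
    (ht : Odd (orderOf t)) (A : Finset (IrrCharacter S))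
    (hA : ∀ χ ∈ A, OddIrr (χ : S → ℂ) ∧ SigFix (χ : S → ℂ) ∧ χ ∈ principalBlock M S)
    (hA' : ∀ χ : IrrCharacter S, OddIrr (χ : S → ℂ) → SigFix (χ : S → ℂ) → χ ∈ principalBlock M S → χ ∉ A →
      (χ : S → ℂ) t = 0) (n : ℤ) (hn : ∑ χ ∈ A, (χ : S → ℂ) t = (n : ℂ)) : (2 : ℤ) ∣ n := by
  classical
  obtain ⟨k, hk⟩ := exists_cube S
  have hprime : M.IsPrime := hM.2.1.isPrime
  have := Fintype.ofFinite (OddB M S)
  have hchar := charP_resField hM
  have h1 := sum_fixed_principal hM hk hev ht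
  -- the fixed members of `A`
  have hodd : ∀ χ : IrrCharacter S, Odd (charDegree (χ : S → ℂ)) ↔ OddIrr (χ : S → ℂ) := by
    intro χ
    rw [odd_iff]
    exact ⟨fun h => ⟨χ.2, h⟩, fun h => h.2⟩
  have h2 : ∑ χ : OddB M S with sigB hk M χ = χ, redC M ((χ.1 : S → ℂ) t) =
      ∑ χ : OddB M S with χ.1 ∈ A, redC M ((χ.1 : S → ℂ) t) := by
    symm
    apply Finset.sum_subset
    · intro χ hχ
      rw [Finset.mem_filter] at hχ ⊢
      refine ⟨Finset.mem_univ _, ?_⟩
      apply Subtype.ext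
      rw [sigB_coe, ← sigFix_iff_sig]
      exact (hA _ hχ.2).2.1
    · intro χ hχ hn'
      rw [Finset.mem_filter] at hχ hn'
      have h3 : χ.1 ∉ A := fun h => hn' ⟨Finset.mem_univ _, h⟩
      have h4 : sig hk χ.1 = χ.1 := by
        rw [← sigB_coe]
        exact congrArg Subtype.val hχ.2
      rw [hA' χ.1 ((hodd _).1 χ.2.2) ((sigFix_iff_sig hk _).2 h4) χ.2.1 h3]
      exact redC_zero
  have h3 : ∑ χ : OddB M S with χ.1 ∈ A, redC M ((χ.1 : S → ℂ) t) = ∑ χ ∈ A, redC M ((χ : S → ℂ) t) := by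
    refine Finset.sum_bij (fun χ _ => χ.1) ?_ ?_ ?_ ?_
    · intro χ hχ
      exact (Finset.mem_filter.1 hχ).2
    · intro χ _ ψ _ h
      exact Subtype.ext h
    · intro χ hχ
      refine ⟨⟨χ, (hA χ hχ).2.2, (hodd _).2 (hA χ hχ).1⟩, ?_, rfl⟩
      rw [Finset.mem_filter]
      exact ⟨Finset.mem_univ _, hχ⟩
    · intro χ _
      rfl
  rw [h2, h3, ← redC_sum (fun χ _ => memLocalRing_irr χ t), hn, redC_intCast] at h1
  exact (CharP.intCast_eq_zero_iff (ResField M) 2 n).1 h1

end Cfsg.Agent.H921.K4
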