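import Cfsg.Agent.H921.K4.M23
import Cfsg.Agent.H921.K4.M23Cent
import Cfsg.Agent.H921.K4.Parity
import Cfsg.Agent.H740.K4.Basic
import Cfsg.Agent.M22.FiveB
import Cfsg.Agent.H633.CentTwo
import Cfsg.Agent.H601.OddDeg.Block
import Cfsg.Agent.OddHalf.Small.Mathieu
import Cfsg.Agent.CharactersDeep.ColumnBessel

/-!
# K4 rows (S4547): the Mathieu group of degree 23, five good characters (helper921)

The irreducible characters of odd degree have the degrees `1, 45, 45, 231, 231, 231, 253, 1035`. At an element `t` of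
order 7 the values are `1, *, *, 0, 0, 0, 1, -1`, so that (parity) the characters of degree 45 are `σ`-fixed.
-/

set_option autoImplicit false

namespace Cfsg.Agent.H921.K4.M23

open Cfsg Cfsg.Agent.H601.K4 Cfsg.Agent.M23Order.Base Cfsg.Agent.M23Order.Setup
  Cfsg.Agent.M23Order.ColumnEleven Cfsg.Agent.M23Order.TwentyThree Cfsg.Agent.Characters.Core
  Cfsg.Agent.H618.Sigma

universe u

variable {S : Type u} [Group S] [Finite S]

/-- An integral value at an element of order `p` is congruent to the degree. -/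
theorem dvd_sub_of_order {p : ℕ} [hp : Fact p.Prime] {χ : S → ℂ} (hχ : IsIrrCharacter S χ) {t : S}
    (ht : orderOf t = p) {n z : ℤ} (hn : χ 1 = n) (hz : χ t = z) : (p : ℤ) ∣ z - n := by
  obtain ⟨M, hM⟩ := Blocks.ExistsModular.exists_isPModular hp.out
  have h2 := Cfsg.Agent.CharactersDeep.ModCongr.memLocalIdeal_character_sub hM hχ t t
    ⟨1, mul_one t, Commute.one_right t, ⟨1, by rw [ht, pow_one]⟩, by
      rw [orderOf_one]; exact fun h => hp.out.one_lt.ne' (Nat.dvd_one.1 h)⟩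
  rw [inv_mul_cancel, hn, hz] at h2
  have hprime : M.IsPrime := hM.2.1.isPrime
  have h4 : (z : ℂ) - (n : ℂ) = ((z - n : ℤ) : ℂ) := by push_cast; ring
  rw [h4] at h2
  exact (Blocks.Local.memLocalIdeal_intCast_iff hM _).1 h2

/-- The value of a unique character at an element of prime order with a small centralizer. -/
theorem Uniq.value {χ : S → ℂ} (h : Uniq χ) {p : ℕ} [hp : Fact p.Prime] {t : S} (ht : orderOf t = p) {n : ℕ}
    (hn : charDegree χ = n) {c : ℕ} (hc : Nat.card (Subgroup.centralizer ({t} : Set S)) ≤ c) :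
    ∃ z : ℤ, χ t = z ∧ (p : ℤ) ∣ z - n ∧ z ^ 2 ≤ c := by
  have h1 := (Cfsg.Agent.Characters.GaloisBasic.exists_rat_iff (isIrr_isCharacter h.irr) t).2 fun m hm => h.rat m hm t
  obtain ⟨z, hz⟩ := Cfsg.Agent.Characters.GaloisBasic.exists_int_of_rat (isIrr_isCharacter h.irr) t h1
  refine ⟨z, hz, ?_, ?_⟩
  · refine dvd_sub_of_order h.irr ht ?_ hz
    rw [Cfsg.Agent.Blocks.Basic.irr_one_eq_charDegree h.irr, hn]
    push_cast
    rfl
  · have h2 := Cfsg.Agent.CharactersDeep.ColumnBessel.sum_norm_sq_le {(⟨χ, h.irr⟩ : IrrCharacter S)} t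
    rw [Finset.sum_singleton] at h2
    have h3 : ‖χ t‖ ^ 2 ≤ (c : ℝ) := h2.trans (by exact_mod_cast hc)
    rw [hz, Complex.norm_intCast, sq_abs] at h3
    exact_mod_cast h3

section

variable [IsSimpleGroup S] {H : Hyp S} {z : S} {v : IrrCharacter S → ℤ}
  {a b c d g h b₁ c₁ : IrrCharacter S}

/-- All irreducible characters. -/
theorem exists_all (K : Elev H z v a b c d g h b₁ c₁) :
    ∃ x₂ x₃ w : IrrCharacter S, dg x₂ = 231 ∧ dg x₃ = 231 ∧ dg w = 253 ∧
      ∀ χ : IrrCharacter S, ¬ 2 ∣ dg χ → χ ∈ [H.D.one, b, c, g, x₂, x₃, d, w] := by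
  classical
  have := finite_irr (G := S)
  have := Fintype.ofFinite (IrrCharacter S)
  obtain ⟨x₁, x₂, x₃, x₄, x₅, hx, e1, e2, e3, e4, e5, ef⟩ := exists_block K
  have hl : [H.D.one, b, c, b₁, c₁, g, x₁, x₂, x₃, x₄, x₅].toFinset = H.D.NE := by
    ext χ
    rw [List.mem_toFinset, hx]
  have hnd : [H.D.one, b, c, b₁, c₁, g, x₁, x₂, x₃, x₄, x₅].Nodup := by
    have h1 : [H.D.one, b, c, b₁, c₁, g, x₁, x₂, x₃, x₄, x₅].toFinset.card =
        [H.D.one, b, c, b₁, c₁, g, x₁, x₂, x₃, x₄, x₅].length := by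
      rw [hl, H.D.card_NE]
      rfl
    exact (Multiset.toFinset_card_eq_card_iff_nodup
      (m := ([H.D.one, b, c, b₁, c₁, g, x₁, x₂, x₃, x₄, x₅] : Multiset (IrrCharacter S)))).1 h1
  have hNE : ∑ χ ∈ H.D.NE, dg χ ^ 2 = 1 + 45 ^ 2 + 45 ^ 2 + 896 ^ 2 + 896 ^ 2 + 231 ^ 2 + 22 ^ 2 + 231 ^ 2 + 231 ^ 2 +
      990 ^ 2 + 990 ^ 2 := by
    rw [← hl, List.sum_toFinset _ hnd]
    simp only [List.map_cons, List.map_nil, List.sum_cons, List.sum_nil, dg_one H, K.dgb, K.dgc, K.dgb₁, K.dgc₁,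
      K.dgg, e1, e2, e3, e4, e5]
    norm_num
  have hX : ∑ χ ∈ H.D.X, dg χ ^ 2 = 2 * 770 ^ 2 := by
    rw [Finset.sum_congr rfl fun χ hχ => by rw [show dg χ = 770 from (H.D.deg_X χ hχ).trans ef], Finset.sum_const,
      H.D.card_X]
    norm_num
  have hout : ∀ {χ : IrrCharacter S}, dg χ % 23 = 0 → χ ∉ H.D.NE ∪ H.D.X := by
    intro χ h1 h2
    rcases Finset.mem_union.1 h2 with h3 | h3
    · rcases mod23_NE H h3 with h4 | h4 <;> omega
    · rcases mod23_X H h3 with h4 | h4 <;> omega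
  have hne : ∀ {χ ψ : IrrCharacter S}, dg χ ≠ dg ψ → χ ≠ ψ := fun h h' => h (by rw [h'])
  have h1 : h ∉ H.D.NE ∪ H.D.X := hout (by rw [K.dgh])
  have h2 : d ∉ insert h (H.D.NE ∪ H.D.X) := by
    rw [Finset.mem_insert, not_or]
    exact ⟨hne (by rw [K.dgd, K.dgh]; norm_num), hout (by rw [K.dgd])⟩
  have h3 : a ∉ insert d (insert h (H.D.NE ∪ H.D.X)) := by
    rw [Finset.mem_insert, Finset.mem_insert, not_or, not_or]
    exact ⟨hne (by rw [K.dga, K.dgd]; norm_num), hne (by rw [K.dga, K.dgh]; norm_num), hout (by rw [K.dga])⟩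
  have hA : ∑ χ ∈ insert a (insert d (insert h (H.D.NE ∪ H.D.X))), dg χ ^ 2 = 10136951 := by
    rw [Finset.sum_insert h3, Finset.sum_insert h2, Finset.sum_insert h1, Finset.sum_union H.D.disj, hNE, hX,
      K.dga, K.dgd, K.dgh]
    norm_num
  have htot := sum_dg_sq (G := S)
  rw [H.hcard, ← Finset.sum_sdiff (Finset.subset_univ (insert a (insert d (insert h (H.D.NE ∪ H.D.X))))), hA] at htot
  set R := Finset.univ \ insert a (insert d (insert h (H.D.NE ∪ H.D.X))) with hR
  have hRsum : ∑ χ ∈ R, dg χ ^ 2 = 64009 := by omega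
  have hRmem : ∀ χ ∈ R, 253 ≤ dg χ := by
    intro χ hχ
    rw [hR, Finset.mem_sdiff] at hχ
    have h4 := hχ.2
    simp only [Finset.mem_insert, Finset.mem_union, not_or] at h4
    obtain ⟨ha, hd, hh, hNE', hX'⟩ := h4
    have h5 := mod23_out H hNE' hX'
    have h6 : χ ∉ [H.D.one, b, c, b₁, c₁, g, x₁, x₂, x₃, x₄, x₅] := fun h' => hNE' ((hx χ).2 h')
    simp only [List.mem_cons, List.not_mem_nil, or_false, not_or] at h6
    have h7 := dg_mod K h6.1 ha h6.2.1 h6.2.2.1 hd h6.2.2.2.1 h6.2.2.2.2.1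
    have h8 := dg_ne_zero χ
    omega
  obtain ⟨w, hw⟩ : R.Nonempty := by
    rw [Finset.nonempty_iff_ne_empty]
    intro h4
    rw [h4, Finset.sum_empty] at hRsum
    omega
  have hw1 := Finset.add_sum_erase R (fun χ => dg χ ^ 2) hw
  have hwle : 253 ^ 2 ≤ dg w ^ 2 := Nat.pow_le_pow_left (hRmem w hw) 2
  have hR1 : ∀ χ ∈ R, χ = w := by
    intro χ hχ
    by_contra hne'
    have h4 : χ ∈ R.erase w := Finset.mem_erase.2 ⟨hne', hχ⟩
    have h5 := Finset.single_le_sum (f := fun χ => dg χ ^ 2) (fun i _ => Nat.zero_le _) h4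
    have h6 : 253 ^ 2 ≤ dg χ ^ 2 := Nat.pow_le_pow_left (hRmem χ hχ) 2
    have h5' : dg χ ^ 2 ≤ ∑ χ ∈ R.erase w, dg χ ^ 2 := h5
    have hw1' : dg w ^ 2 + ∑ χ ∈ R.erase w, dg χ ^ 2 = ∑ χ ∈ R, dg χ ^ 2 := hw1
    omega
  have hw2 : dg w = 253 := by
    have h4 : dg w ^ 2 ≤ 253 ^ 2 := by
      have hw1' : dg w ^ 2 + ∑ χ ∈ R.erase w, dg χ ^ 2 = ∑ χ ∈ R, dg χ ^ 2 := hw1
      omega
    have h5 := (Nat.pow_le_pow_iff_left (n := 2) (by norm_num)).1 h4
    have h6 := hRmem w hw
    omega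
  refine ⟨x₂, x₃, w, e2, e3, hw2, fun χ hodd => ?_⟩
  by_cases hχ : χ ∈ R
  · rw [hR1 χ hχ]
    simp
  · rw [hR, Finset.mem_sdiff, not_and, not_not] at hχ
    have h4 := hχ (Finset.mem_univ _)
    simp only [Finset.mem_insert, Finset.mem_union] at h4
    rcases h4 with rfl | rfl | rfl | h4 | h4
    · have := K.dga
      omega
    · simp
    · have := K.dgh
      omega
    · have h5 := (hx χ).1 h4
      simp only [List.mem_cons, List.not_mem_nil, or_false] at h5 ⊢
      have f1 := K.dgb₁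
      have f2 := K.dgc₁
      rcases h5 with rfl | rfl | rfl | rfl | rfl | rfl | rfl | rfl | rfl | rfl | rfl <;> first | omega | tauto
    · exfalso
      have h5 := H.D.deg_X χ h4
      rw [ef] at h5
      have h6 : dg χ = 770 := h5
      omega

end

theorem twoC (h : Cfsg.Spor.IsoM23 S) : H601.OddDeg.TwoC S := by
  have T : Sylow 2 S := default
  exact ⟨T, T.isPGroup', Cfsg.Agent.H633.CentTwo.CT.of_charTwo (Cfsg.Agent.OddHalf.Small.Mathieu.m23 h) T⟩

/-- [row] M23 -/
theorem good5 (h : Cfsg.Spor.IsoM23 S) : Good5 S := by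
  classical
  have hT := twoC h
  have h7 : Fact (Nat.Prime 7) := ⟨by norm_num⟩
  obtain ⟨hs, H, z, v, a, b, c, d, g, h', b₁, c₁, K⟩ := Cfsg.Agent.H417.DegMTwentyThree.exists_elev' (isM23 h)
  obtain ⟨x₂, x₃, w, e2, e3, ew, hodd⟩ := exists_all K
  have hcard : Nat.card S = 10200960 := H.hcard
  have d0 := dg_one H
  have d1 := K.dgb
  have d2 := K.dgc
  have d3 := K.dgd
  have d4 := K.dgg
  have hbc : b ≠ c := by
    have := K.nodup
    simp only [List.nodup_cons, List.mem_cons, List.not_mem_nil, or_false, not_or] at this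
    exact this.2.1.1
  have hne : ∀ {χ ψ : IrrCharacter S}, dg χ ≠ dg ψ → χ ≠ ψ := fun h h' => h (by rw [h'])
  -- the characters determined by their degree
  have huniq : ∀ ψ : IrrCharacter S, ψ ∈ [H.D.one, d, w] → Uniq (ψ : S → ℂ) := by
    intro ψ hψ
    refine ⟨ψ.2, ?_, ?_⟩
    · show ¬ 2 ∣ dg ψ
      simp only [List.mem_cons, List.not_mem_nil, or_false] at hψ
      rcases hψ with rfl | rfl | rfl <;> omega
    · intro χ hχ h1
      have h2 : dg ⟨χ, hχ⟩ = dg ψ := by
        have h3 := dg_eq ⟨χ, hχ⟩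
        have h4 := dg_eq ψ
        have h5 : ((⟨χ, hχ⟩ : IrrCharacter S) : S → ℂ) 1 = (ψ : S → ℂ) 1 := h1
        rw [h3, h4] at h5
        exact_mod_cast h5
      simp only [List.mem_cons, List.not_mem_nil, or_false] at hψ
      have h3 : ¬ 2 ∣ dg ⟨χ, hχ⟩ := by
        rw [h2]
        rcases hψ with rfl | rfl | rfl <;> omega
      have h4 := hodd _ h3
      simp only [List.mem_cons, List.not_mem_nil, or_false] at h4
      have h5 : (⟨χ, hχ⟩ : IrrCharacter S) = ψ := by
        rcases hψ with rfl | rfl | rfl <;> rcases h4 with h4 | h4 | h4 | h4 | h4 | h4 | h4 | h4 <;>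
          first | exact h4 | (exfalso; rw [h4] at h2; omega)
      exact congrArg Subtype.val h5
  have hodd1 : ∀ ψ : IrrCharacter S, ¬ 2 ∣ dg ψ → OddIrr (ψ : S → ℂ) := fun ψ hψ => ⟨ψ.2, hψ⟩
  have hB0 : ∀ ψ : IrrCharacter S, ¬ 2 ∣ dg ψ → InB0 (ψ : S → ℂ) := fun ψ hψ M hM hi => hT.mem_principalBlock hM ψ hψ
  -- an element of order seven
  obtain ⟨t, ht⟩ := exists_prime_orderOf_dvd_card' (G := S) 7 (by rw [hcard]; norm_num)
  have hc := M23Cent.card_centralizer_le h ht
  obtain ⟨zd, hzd, hzd1, hzd2⟩ := Uniq.value (huniq d (by simp)) ht d3 hc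
  obtain ⟨zw, hzw, hzw1, hzw2⟩ := Uniq.value (huniq w (by simp)) ht ew hc
  have hzd' : zd = -1 := by
    push_cast at hzd1 hzd2
    have h1 : -5 < zd ∧ zd < 5 := by constructor <;> nlinarith
    omega
  have hzw' : zw = 1 := by
    push_cast at hzw1 hzw2
    have h1 : -5 < zw ∧ zw < 5 := by constructor <;> nlinarith
    omega
  -- the automorphism
  obtain ⟨k, hk⟩ := exists_cube S
  have hft : Fintype S := Fintype.ofFinite S
  have hsig : ∀ ψ : IrrCharacter S, ψ = b ∨ ψ = c → sig hk ψ = b ∨ sig hk ψ = c := by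
    intro ψ hψ
    have h1 : dg (sig hk ψ) = 45 := by
      have h2 : dg (sig hk ψ) = dg ψ := charDegree_sig hk ψ
      rw [h2]
      rcases hψ with rfl | rfl <;> assumption
    have h2 := hodd (sig hk ψ) (by omega)
    simp only [List.mem_cons, List.not_mem_nil, or_false] at h2
    rcases h2 with h2 | h2 | h2 | h2 | h2 | h2 | h2 | h2 <;>
      first | exact Or.inl h2 | exact Or.inr h2 | (exfalso; rw [h2] at h1; omega)
  have hinj : ∀ χ ψ : IrrCharacter S, sig hk χ = sig hk ψ → χ = ψ := by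
    intro χ ψ h1
    apply Subtype.ext
    funext x
    obtain ⟨y, rfl⟩ := (Cfsg.Agent.H740.K4.bij_pow hk).2 x
    have h2 := congrFun (congrArg Subtype.val h1) y
    exact h2
  have hfix : SigFix (b : S → ℂ) ∧ SigFix (c : S → ℂ) := by
    rw [sigFix_iff_sig hk, sigFix_iff_sig hk]
    by_contra hcon
    have hnb : sig hk b = c ∧ sig hk c = b := by
      rcases hsig b (Or.inl rfl) with h1 | h1 <;> rcases hsig c (Or.inr rfl) with h2 | h2
      · exact absurd (hinj b c (h1.trans h2.symm)) hbc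
      · exact absurd ⟨h1, h2⟩ hcon
      · exact ⟨h1, h2⟩
      · exact absurd (hinj b c (h1.trans h2.symm)) hbc
    obtain ⟨M, hM⟩ := Blocks.ExistsModular.exists_isPModular Nat.prime_two
    have hpar := good_parity hM (t := t) (by rw [hcard]; decide) (by rw [ht]; decide) {H.D.one, d, w} (by
      intro χ hχ
      rw [Finset.mem_insert, Finset.mem_insert, Finset.mem_singleton] at hχ
      have h1 := huniq χ (by simpa using hχ)
      exact ⟨h1.oddIrr, h1.good.sig, h1.good.b0 M hM χ.2⟩) (by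
      intro χ h1 h2 _ h4
      rw [Finset.mem_insert, Finset.mem_insert, Finset.mem_singleton] at h4
      have h5 := hodd χ h1.2
      rw [sigFix_iff_sig hk] at h2
      simp only [List.mem_cons, List.not_mem_nil, or_false] at h5
      have hvan : ∀ ψ : IrrCharacter S, dg ψ = 231 → (ψ : S → ℂ) t = 0 := by
        intro ψ hψ
        refine Cfsg.Agent.M22.FiveB.vanish (p := 7) (by norm_num) (by rw [hcard]; norm_num) (by rw [hcard]; norm_num)
          ψ ?_ (by rw [ht])
        show 7 ∣ dg ψ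
        rw [hψ]
        norm_num
      rcases h5 with rfl | rfl | rfl | rfl | rfl | rfl | rfl | rfl
      · exact absurd (Or.inl rfl) h4
      · exact absurd (h2.symm.trans hnb.1) hbc
      · exact absurd (hnb.2.symm.trans h2) hbc
      · exact hvan _ d4
      · exact hvan _ e2
      · exact hvan _ e3
      · exact absurd (Or.inr (Or.inl rfl)) h4
      · exact absurd (Or.inr (Or.inr rfl)) h4) 1 (by
      have n1 : H.D.one ∉ ({d, w} : Finset (IrrCharacter S)) := by
        rw [Finset.mem_insert, Finset.mem_singleton, not_or]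
        exact ⟨hne (by omega), hne (by omega)⟩
      have n2 : d ∉ ({w} : Finset (IrrCharacter S)) := by
        rw [Finset.mem_singleton]
        exact hne (by omega)
      rw [Finset.sum_insert n1, Finset.sum_insert n2, Finset.sum_singleton, hzd, hzw, hzd', hzw', H.D.coe_one]
      simp)
    omega
  -- conclusion
  let f : Fin 5 → IrrCharacter S := ![H.D.one, b, c, d, w]
  have hf : Function.Injective f := by
    have hl : (List.ofFn f).Nodup := by
      have : List.ofFn f = [H.D.one, b, c, d, w] := by simp [f, List.ofFn_succ]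
      rw [this]
      simp only [List.nodup_cons, List.mem_cons, List.not_mem_nil, or_false, not_or, List.nodup_nil, and_true,
        not_false_eq_true]
      exact ⟨⟨hne (by omega), hne (by omega), hne (by omega), hne (by omega)⟩, ⟨hbc, hne (by omega), hne (by omega)⟩,
        ⟨hne (by omega), hne (by omega)⟩, hne (by omega)⟩
    exact List.nodup_ofFn.1 hl
  refine ⟨fun i => (f i : S → ℂ), fun i j hij => hf (Subtype.ext hij), fun i => ?_⟩
  fin_cases i
  · exact (huniq H.D.one (by simp)).good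
  · exact ⟨hodd1 b (by omega), hfix.1, hB0 b (by omega)⟩
  · exact ⟨hodd1 c (by omega), hfix.2, hB0 c (by omega)⟩
  · exact (huniq d (by simp)).good
  · exact (huniq w (by simp)).good

end Cfsg.Agent.H921.K4.M23
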