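import Cfsg.Agent.H601.K4.Defs
import Cfsg.Agent.Characters.GaloisIrr

/-!
# K4 rows (S4947, S4547): characters determined by their degree (helper921)

* `Uniq χ` : `χ` is an irreducible character of odd degree, the only one of its degree;
* `Uniq.good`, `Uniq.inv` : such a character is `Good` and invariant under all automorphisms;
* `good5_of_uniq`, `autInv3_of_uniq`.
-/

set_option autoImplicit false

namespace Cfsg.Agent.H921.K4

open Cfsg Cfsg.Agent.Characters.Core Cfsg.Agent.H601.K4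
open scoped ComplexConjugate

universe u

variable {S : Type u} [Group S]

/-- An irreducible character of odd degree, the only one of its degree. -/
structure Uniq (χ : S → ℂ) : Prop where
  irr : IsIrrCharacter S χ
  odd : ¬ 2 ∣ charDegree χ
  uniq : ∀ ψ : S → ℂ, IsIrrCharacter S ψ → ψ 1 = χ 1 → ψ = χ

theorem Uniq.oddIrr {χ : S → ℂ} (h : Uniq χ) : OddIrr χ := ⟨h.irr, h.odd⟩

theorem Uniq.real [Finite S] {χ : S → ℂ} (h : Uniq χ) (x : S) : (χ x).im = 0 := by
  have h1 : (fun g => conj (χ g)) = χ := by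
    refine h.uniq _ (isIrr_conj h.irr) ?_
    show conj (χ 1) = χ 1
    rw [Cfsg.Agent.Blocks.Basic.irr_one_eq_charDegree h.irr, Complex.conj_natCast]
  exact Complex.conj_eq_iff_im.1 (congrFun h1 x)

theorem Uniq.inv {χ : S → ℂ} (h : Uniq χ) (φ : MulAut S) (x : S) : χ (φ x) = χ x := by
  have h1 : χ ∘ φ.toMonoidHom = χ := by
    refine h.uniq _ (isIrr_comp φ.toMonoidHom φ.surjective h.irr) ?_
    show χ (φ 1) = χ 1
    rw [map_one]
  exact congrFun h1 x

theorem Uniq.rat [Finite S] {χ : S → ℂ} (h : Uniq χ) (k : ℕ) (hk : k.Coprime (Nat.card S)) (g : S) : χ (g ^ k) = χ g := by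
  have h1 := h.uniq _ (Cfsg.Agent.Characters.GaloisIrr.isIrr_pow hk h.irr) (by
    show χ (1 ^ k) = χ 1
    rw [one_pow])
  exact congrFun h1 g

theorem Uniq.good [Finite S] {χ : S → ℂ} (h : Uniq χ) : Good χ where
  odd := h.oddIrr
  sig := SigFix.of_pow h.rat
  b0 := InB0.of_real h.oddIrr h.real

/-- Real-valued, rational and odd. -/
theorem good_of_real_rat [Finite S] {χ : S → ℂ} (h : OddIrr χ) (hr : ∀ x, (χ x).im = 0)
    (hq : ∀ (k : ℕ), k.Coprime (Nat.card S) → ∀ g : S, χ (g ^ k) = χ g) : Good χ where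
  odd := h
  sig := SigFix.of_pow hq
  b0 := InB0.of_real h hr

theorem injective_of_degree {n : ℕ} {χ : Fin n → S → ℂ} {d : Fin n → ℕ} (hd : Function.Injective d)
    (h : ∀ i, χ i 1 = d i) : Function.Injective χ := by
  intro i j hij
  apply hd
  have h1 : (d i : ℂ) = d j := by rw [← h, ← h, hij]
  exact_mod_cast h1

/-- A family of characters determined by their degrees. -/
theorem good5_of_uniq [Finite S] (χ : Fin 5 → S → ℂ) (h : ∀ i, Uniq (χ i)) (hinj : Function.Injective χ) : Good5 S :=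
  ⟨χ, hinj, fun i => (h i).good⟩

theorem autInv3_of_uniq (χ : Fin 3 → S → ℂ) (h : ∀ i, Uniq (χ i)) (hinj : Function.Injective χ) : AutInv3 S :=
  ⟨χ, hinj, fun i => ⟨(h i).oddIrr, (h i).inv⟩⟩

/-- Characters of a group with a known list of degrees. -/
theorem uniq_of_enum {n : ℕ} (f : Fin n ≃ IrrCharacter S) (d : Fin n → ℕ)
    (hd : ∀ i, charDegree (f i : S → ℂ) = d i) (i : Fin n) (hi : ∀ j, d j = d i → j = i) (ho : d i % 2 = 1) :
    Uniq (f i : S → ℂ) where
  irr := (f i).2
  odd := by rw [hd]; omega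
  uniq := by
    intro ψ hψ h1
    have h2 : (⟨ψ, hψ⟩ : IrrCharacter S) = f (f.symm ⟨ψ, hψ⟩) := (f.apply_symm_apply _).symm
    have h3 : d (f.symm ⟨ψ, hψ⟩) = d i := by
      rw [← hd, ← hd, ← h2]
      have h4 := Cfsg.Agent.Blocks.Basic.irr_one_eq_charDegree hψ
      have h5 := Cfsg.Agent.Blocks.Basic.irr_one_eq_charDegree (f i).2
      rw [h4, h5] at h1
      exact_mod_cast h1
    have h4 := hi _ h3
    rw [h4] at h2
    exact congrArg Subtype.val h2

/-- Transport along an isomorphism. -/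
theorem Uniq.comp {T : Type u} [Group T] (e : S ≃* T) {χ : T → ℂ} (h : Uniq χ) : Uniq (fun s => χ (e s)) where
  irr := isIrr_comp e.toMonoidHom e.surjective h.irr
  odd := by
    have h1 : charDegree (fun s => χ (e s)) = charDegree χ := by
      show ⌊(χ (e 1)).re⌋₊ = ⌊(χ 1).re⌋₊
      rw [map_one]
    rw [h1]
    exact h.odd
  uniq := by
    intro ψ hψ h1
    have h2 := h.uniq _ (isIrr_comp e.symm.toMonoidHom e.symm.surjective hψ) (by
      show ψ (e.symm 1) = χ 1
      rw [map_one, h1, map_one])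
    funext s
    have h3 := congrFun h2 (e s)
    show ψ s = χ (e s)
    rw [← h3]
    show ψ s = ψ (e.symm (e s))
    rw [e.symm_apply_apply]

end Cfsg.Agent.H921.K4
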