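import Cfsg.Agent.H921.K4.Uniq
import Cfsg.Agent.H417.DegMTwentyTwo
import Cfsg.Agent.SporadicA.MathieuRecog

/-!
# K4 rows (S4947, S4547): the Mathieu group of degree 22 (helper921)

The degrees `1, 21, 55, 99, 231, 385` occur once (H417).
-/

set_option autoImplicit false

namespace Cfsg.Agent.H921.K4.M22

open Cfsg Cfsg.Agent.H601.K4

universe u

variable {S : Type u} [Group S] [Finite S]

def D : Fin 12 → ℕ := fun i => Cfsg.Agent.M22.DegreesEnd.LB.getD i 0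

theorem hD (i : Fin 12) (h : i = 0 ∨ i = 1 ∨ i = 4 ∨ i = 5 ∨ i = 8 ∨ i = 11) :
    (∀ j, D j = D i → j = i) ∧ D i % 2 = 1 := by
  revert i
  decide

theorem exists_uniq (h : Cfsg.IsM22 S) : ∃ χ : Fin 6 → S → ℂ, (∀ i, Uniq (χ i)) ∧ Function.Injective χ := by
  obtain ⟨f, hf⟩ := Cfsg.Agent.H417.DegMTwentyTwo.exists_enum h
  refine ⟨fun i => (f (![0, 1, 4, 5, 8, 11] i) : S → ℂ), fun i => ?_, ?_⟩
  · have h1 := hD (![0, 1, 4, 5, 8, 11] i) (by fin_cases i <;> simp)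
    exact uniq_of_enum f D hf _ h1.1 h1.2
  · have h0 : Function.Injective (![0, 1, 4, 5, 8, 11] : Fin 6 → Fin 12) := by decide
    intro i j hij
    exact h0 (f.injective (Subtype.ext hij))

/-- [row] M22 -/
theorem good5_of_card (h : Cfsg.IsM22 S) : Good5 S := by
  obtain ⟨χ, h1, h2⟩ := exists_uniq h
  exact good5_of_uniq (fun i => χ (Fin.castSucc i)) (fun i => h1 _)
    (h2.comp (Fin.castSucc_injective 5))

theorem autInv3_of_card (h : Cfsg.IsM22 S) : AutInv3 S := by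
  obtain ⟨χ, h1, h2⟩ := exists_uniq h
  have h3 : (3 : ℕ) ≤ 6 := by norm_num
  exact autInv3_of_uniq (fun i => χ (Fin.castLE h3 i)) (fun i => h1 _)
    (h2.comp (Fin.castLE_injective h3))

omit [Finite S] in
theorem isM22 (h : Cfsg.Spor.IsoM22 S) : Cfsg.IsM22 S := by
  obtain ⟨e⟩ := h
  have h1 := Cfsg.Agent.SporadicA.MathieuRecog.simple_M22
  exact ⟨e.isSimpleGroup, by rw [Nat.card_congr e.toEquiv, Cfsg.Agent.SporadicA.MathieuRecog.card_M22]⟩

/-- [row] M22 -/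
theorem good5 (h : Cfsg.Spor.IsoM22 S) : Good5 S := good5_of_card (isM22 h)

/-- [row] M22 -/
theorem autInv3 (h : Cfsg.Spor.IsoM22 S) : AutInv3 S := autInv3_of_card (isM22 h)

end Cfsg.Agent.H921.K4.M22
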