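import Cfsg.Agent.H921.K4.Uniq
import Cfsg.Agent.H714.K4.Defs
import Cfsg.Agent.H417.DegMTwentyThree
import Cfsg.Agent.SporadicA.MathieuRecog
import Cfsg.Agent.S2037

/-!
# K4 rows (S4947): the Mathieu group of degree 23 (helper921)

The degrees `1, 45, 45, 1035, 231` (H417, M23Order).
-/

set_option autoImplicit false

namespace Cfsg.Agent.H921.K4.M23

open Cfsg Cfsg.Agent.H601.K4 Cfsg.Agent.M23Order.Base Cfsg.Agent.M23Order.Setup
  Cfsg.Agent.M23Order.ColumnEleven Cfsg.Agent.M23Order.TwentyThree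

universe u

variable {S : Type u} [Group S] [Finite S]

omit [Finite S] in
theorem isM23 (h : Cfsg.Spor.IsoM23 S) : Cfsg.IsM23 S := by
  obtain ⟨e⟩ := h
  have h1 := Cfsg.Agent.S2037.simple
  exact ⟨e.isSimpleGroup, by rw [Nat.card_congr e.toEquiv, Cfsg.Agent.SporadicA.MathieuRecog.card_M23]⟩

/-- five irreducible characters of odd degree -/
theorem odd5_of_card (h : Cfsg.IsM23 S) : Odd5 S := by
  obtain ⟨hs, H, z, v, a, b, c, d, g, h', b₁, c₁, K⟩ := Cfsg.Agent.H417.DegMTwentyThree.exists_elev' h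
  have hbc : b ≠ c := by
    have := K.nodup
    simp only [List.nodup_cons, List.mem_cons, List.not_mem_nil, or_false, not_or] at this
    exact this.2.1.1
  have hne : ∀ {χ ψ : IrrCharacter S}, dg χ ≠ dg ψ → χ ≠ ψ := fun h h' => h (by rw [h'])
  have d1 := dg_one H
  have d2 := K.dgb
  have d3 := K.dgc
  have d4 := K.dgd
  have d5 := K.dgg
  let f : Fin 5 → IrrCharacter S := ![H.D.one, b, c, d, g]
  have hf : Function.Injective f := by
    have hl : (List.ofFn f).Nodup := by
      have : List.ofFn f = [H.D.one, b, c, d, g] := by simp [f, List.ofFn_succ]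
      rw [this]
      simp only [List.nodup_cons, List.mem_cons, List.not_mem_nil, or_false, not_or, List.nodup_nil, and_true,
        not_false_eq_true]
      exact ⟨⟨hne (by omega), hne (by omega), hne (by omega), hne (by omega)⟩, ⟨hbc, hne (by omega), hne (by omega)⟩,
        ⟨hne (by omega), hne (by omega)⟩, hne (by omega)⟩
    exact List.nodup_ofFn.1 hl
  refine ⟨fun i => (f i : S → ℂ), fun i j hij => hf (Subtype.ext hij), fun i => ⟨(f i).2, ?_⟩⟩
  have h1 : ¬ 2 ∣ dg (f i) := by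
    fin_cases i
    · show ¬ 2 ∣ dg H.D.one
      omega
    · show ¬ 2 ∣ dg b
      omega
    · show ¬ 2 ∣ dg c
      omega
    · show ¬ 2 ∣ dg d
      omega
    · show ¬ 2 ∣ dg g
      omega
  exact h1

theorem rowA_of_odd5 (h : Odd5 S) : Cfsg.Agent.H714.K4.RowA S := by
  obtain ⟨χ, h1, h2⟩ := h
  refine Or.inr ?_
  have : Finite (IrrCharacter S) := Cfsg.Agent.Characters.Core.finite_irr
  let f : Fin 5 → {χ : IrrCharacter S // ¬ 2 ∣ charDegree (χ : S → ℂ)} := fun i => ⟨⟨χ i, (h2 i).1⟩, (h2 i).2⟩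
  have hf : Function.Injective f := by
    intro i j hij
    exact h1 (congrArg (fun x : {χ : IrrCharacter S // ¬ 2 ∣ charDegree (χ : S → ℂ)} => (x.1 : S → ℂ)) hij)
  have h3 := Nat.card_le_card_of_injective f hf
  rwa [Nat.card_eq_fintype_card, Fintype.card_fin] at h3

/-- [row] M23 -/
theorem odd5 (h : Cfsg.Spor.IsoM23 S) : Odd5 S := odd5_of_card (isM23 h)

/-- [row] M23 -/
theorem rowA (h : Cfsg.Spor.IsoM23 S) : Cfsg.Agent.H714.K4.RowA S := rowA_of_odd5 (odd5 h)

end Cfsg.Agent.H921.K4.M23
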